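import Cfsg.Agent.Lib.Helper35.Simple2
import Cfsg.Agent.Lib.Helper35.PresFi23

namespace Cfsg.Agent.Lib.Helper35.Fi23Ord.Y0

open Cfsg.Agent.Lib.Helper35

set_option maxRecDepth 100000
noncomputable section
def yw : List Nat := [7, 1, 4, 8, 6, 3, 2, 3, 8, 9, 2, 5, 9, 8, 0]
noncomputable def tA0 : Nat := 0x1ef70000000004820000000000000000000000000000000000000000000000000000000000000000210b000000000000000000000000000000000000086c086b00000000000000000aa50aa400000000000000000aa0000000000000000000000000000000000000000000000a9600000000000000000000000000000000000000000000000000000000000000000000000000000a83000000000000000000000a7b0000000000000a74000000000000000000000000000000000000000000000640063f00000000000000000ce70ce60000000000000ce100000000000000000000000000000000000000000000000000000000000000000000000000000000000000000000000000000000000000000cc103080000000000000000000000000cbb0000000000000000000000000cb700000000000000000000000000000000000000000000000000000000000000000000061a06190000000000000000000008370836083508340833000000000830082f082e0000082c082b0000000000000000000000000000082200000000081e0000081c000008ab08aa0000040c000000000000000000000000000000000a580000000000000a5400000000000000000a4f000000000000000000000000000000000000000000000000000000000000000000000000000000000000040300000000060906080607060606050604023d000000000000000008100000000000000215040102020000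
noncomputable def tJ0 : Nat := 0x2000000000000000000000000000000000000000000000000000000000000000000000000000000000000000000000000000000000000000000000006000100000000000000000006000700000000000000000006000000000000000000000000000000000000000000000007000000000000000000000000000000000000000000000000000000000000000000000000000000040000000000000000000000010000000000000001000000000000000000000000000000000000000000000001000500000000000000000000000000000000000000000000000000000000000000000000000000000000000000000000000000000000000000000000000000000000000000000000000000000000000000030000000000000000000000000000000000000000000000000000000000000000000000000000000000000000000000000000000000000000000000000000000100050000000000000000000000080006000100050008000000000002000400080000000100020000000000000000000000000000000900000000000200000004000000000000000000000000000000000000000000000000000000000000000000000000000000000000000000000000000000000000000000000000000000000000000000000000000000000000000000000000000000000000000000000001000200050004000700090003000000000000000000000000000000000003000000030000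
noncomputable def tA1 : Nat := 0x38f4000000001ae80000000006850684000000000000000000000000000000000000000000000000000000000000000000000000000000000a970a930000046600000000000000000000000000000000190d000000000000000000000000000000000000000000000000000000000000000000000000000000000000000000000000000000000000000000000000000000000000000000000000000000000000000000000000000000000000000000000000000000000000000000000000085d00000000085500000000086208610000000000000000000000000000000000000000000000000000000000000000000000000cf40000000000000cf30000000000000000000000000000000000000000000000000000000000000000042200000000000000000000000000000000000000000000000000000000000000000000000000000000000000000831082f0000082b000002f10000000000000aab0aaa0000000000000ab100000000000000000000000000000aae000000000000000000000000000000000000000000000000000002c00000000000000000000000000612061000000615000000000000000000000000000000000000000000000a6b0000000000000000000000000000000000000000000000000000000002820000000000000000000000000000000006070606060500000000000000000840000000000000000000000402000000000000000000000000000000000401020c02030000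
noncomputable def tJ1 : Nat := 0xa00000000000000000000000400030000000000000000000000000000000000000000000000000000000000000000000000000000000000020008000000000000000000000000000000000000000000040000000000000000000000000000000000000000000000000000000000000000000000000000000000000000000000000000000000000000000000000000000000000000000000000000000000000000000000000000000000000000000000000000000000000000000000000007000000000002000000000002000300000000000000000000000000000000000000000000000000000000000000000000000000000000000000000000000000000000000000000000000000000000000000000000000000000000000000000000000000000000000000000000000000000000000000000000000000000000000000000000000000000000000200050000000400000001000000000000000000000000000000000000000000000000000000000000000000000000000000000000000000000000000000000000000000000000000100000000000000000000000000020003000000090000000000000000000000000000000000000000000000000000000000000000000000000000000000000000000000000000000000010000000000000000000000000000000000030005000600000000000000000000000000000000000000000000000000000000000000000000000000000000000100010000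
noncomputable def tA2 : Nat := 0x4a90000088c088a088900000887000000000000751100000aa600000aa00a9f0a9d00000a980a9400000000000000000000066f00000000000010cb00000667088200000000086a000000000000731100000000000000000000000000000000000000000000000000000000000000000000000000000000000000000000000000000000000000000000000012f4000000000000000000000000064b064a000000000000085f0000000000000000000000000000000000000000000000000441000000000000000000000000000000000311000000000d05000000000000000000000d03000000000d0100000000000000000cff0000000000000cfe000000000000000000000000000000000000000000000000000000000625062406230af1083c083b000000000838000000000833083208310000082f0000082c000000000000000000000000041b000000000aee0000000008f204170000061a06190000000000000000000000000000000000000000000000000000000000000000000000000000000000000000000008c4000000000000040e0613061200000610000002b200000000000000000a8100000000000000000000000000000000000000000000000000000000000000000000000000000000000000000000000000000405060b060a0609000006070606026d086408630000026604030000000000000845000008430000024704020000082100000000000000000000022204010216020d02040000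
noncomputable def tJ2 : Nat := 0x30006000400000006000000000000000800000001000000010007000100000001000100000000000000000000000500000000000000010000000300090000000000040000000000000008000000000000000000000000000000000000000000000000000000000000000000000000000000000000000000000000000000000000000000000000000000000000000000000000000000030006000000000000000700000000000000000000000000000000000000000000000000000000000000000000000000000000000000020000000000000000000000000000000000000000000000000000000000000000000000000000000000000000000000000000000000000000000000000000000000000000000000060005000400000001000700000000000600000000000700010003000000040000000300000000000000000000000000000000000000000000000000000000000000030005000000000000000000000000000000000000000000000000000000000000000000000000000000000000000000000000000000000000000000010003000000050000000200000000000000000000000000000000000000000000000000000000000000000000000000000000000000000000000000000000000000000000000000000007000100030000000500040002000000000000000200000000000000000000000000000000000200000000000000000000000000000000000200000002000200020000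
noncomputable def tA3 : Nat := 0x77110000000000000000000000000000000000000000047e000000000000000000000000000000000472087b08770000046e088400000000000000000000000000000000000000000000000000000000045d00000000045a000000000000000000000000045600000000000000000000000000000000000004530000045100000000000000000000064e044c00000859085400000000000000000000000000000000000000000000000000004a7b00000000000000000000064506440643064700000000000000000000000000000000043c0000063b00000000000000000000000000000000043200000000000000000000000000000000000000000000000000000000062e04270000083508330000000000000000042300000af8000000000307000000000306000000000afc0000000000000afb000000000000000002fd061f061e061d02f9062200000000000000000000061a00000000000000000000000002ea0000041302e90000000002e60aca0000000002df00000ac902d5000002d30000000008cd040f02cc061206110610000008b202be08b508b408b302b6040d000000000000000002a908a7040a00000000000002a40a8c00000a8b029e000000000296088f00000000000000000406060b028e0609060806070286086d0000027f08710870086f027304040867000000000403000000000000025e084b084a0849024d0402024100000828023a08260825082402290401021b0217020e02050000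
noncomputable def tJ3 : Nat := 0x600000000000000000000000000000000000000000000000000000000000000000000000000000000000200040000000000030000000000000000000000000000000000000000000000000000000000000000000000000000000000000000000000000000000000000000000000000000000000000000000000000000000000000000000000000003000000000002000400000000000000000000000000000000000000000000000000007e070000000000000000000000020004000300060000000000000000000000000000000000000000000500000000000000000000000000000000000000000000000000000000000000000000000000000000000000000000000500000000000200050000000000000000000000000000000000000001000000000001000000000000000000000000000000000000000000000001000200040003000100060000000000000000000000020000000000000000000000000001000000000001000000000001000000000000000100000000000100000001000000000000000000010002000400030000000000010000000000000001000000000000000000000001000000000000000000000001000000000000000100000000000100000000000000000000000000050001000200040003000100000000000100000000000000010000000000000000000000000000000000010000000000000001000000010000000000010000000000000001000000010001000100010000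
noncomputable def tA4 : Nat := 0x26ec26ed12b104840000068500001ce800000000000000000000000000000000000006790000000000000000000006730000000012c50000066b00000000000000001eca0463290f29100461000000001f090000000000000000000000000000000000000000000000000000000000000657000006550000000000000000085d0000085900000000000000001cef00000000064c064a14f60000000040e8044700000000000000000000000000000000000000004a730000000000000000110e000000002d1000000640000000000000000000000000000000000000000000000000000000000000000000000000063306320631000000000000083700000835042a0000000000003a79000000000000062706250629090b030d0422000000000000000000000000000000000000000000000000041d0000000000000000000000000000041b0000000008f40419061a0000000000000000000002ee000002eb00000000000000000000000000000acf00000000000008d60000041006140613061206110000000008c7000008c602c8040e02c100000000000002b8040d000008ac02ad040c0000000000000000000000000a9300000a910000089900000897000004070000060a06090608029008860000088800000887028904050283000000000000000002760404026e0869026a0403000000000000085208510850084f0253040202480242023e0000082d082c082b022f04010223021c0218020f02060000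
noncomputable def tJ4 : Nat := 0x3000200000000000000040000000800000000000000000000000000000000000000030000000000000000000000070000000000040000000200000000000000000000000000000000000000000000000000000000000000000000000000000000000000000000000000000000000000050000000200000000000000000003000000020000000000000000000300000000000300040000000000008486000000000000000000000000000000000000000000007c86000000000000000000030000000076060000000200000000000000000000000000000000000000000000000000000000000000000000000000050003000200000000000000050000000200000000000000007f8600000000000000030004000700000001000000000000000000000000000000000000000000000000000000000000000000000000000000000000000000000000000000000002000000000000000000000001000000010000000000000000000000000000000000000000000000000000000000050003000200040000000000000000000000010000000100000000000000010000000000000001000000000000000000000000000000000000000000000000000000000000000000000003000200040001000000000000000000000001000000010000000000000000000100000001000000010000000000000000000000000000000000010000000100010001000000000000000000010000000100010001000100010000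
noncomputable def tA5 : Nat := 0x4820000000000000000000000000000087e00000000000000000000000000000000046d00000000000000000000000000000000066500000000066200000000000000000000000000000000065b06590000085f085e085d0000605b00000000045400000000000000000000000000000000000000000652044d00000000000000000000000024f0000000000000000000000000000000000000000000000000000000000000000000000000044100000000000000000640000000000000043d000068a00000000000000000000000000635083c083b083a0839000000000430000000000000000000000000000000000000062f000000000000000000000000000000003a7e00000000042200000309000000000000000000000000000000000000061f00000000000000000000000000000000041b000002f80000061a000000000000000000000000000004160000041500000ae00000000000000000000008e2041100000613061202d9000008ce000000000000040f02cd000000000000040e000002c2000000000000040d000002b308ae040c000002aa0aa00a9f0a9e000000000000000008a10408060b060a0609029a08900000000000000000040600000000000000000000040500000284000000000000000004040000026f086b0403000000000263026100000000085502580402024e02490243023f08330832083102340401022a0224021d0219021002070000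
noncomputable def tJ5 : Nat := 0x300000000000000000000000000000000000000000000000000000000000000000000000300000000000200000000000000000000000000000000000400020000000400050003000071860000000000000000000000000000000000000000000000000000000400000000000000000000000000000002000000000000000000000000000000000000000000000000000000000000000000000000000000000000000000000002000000000000000000000008000000000000000000000000000200030004000500030000000000000000000000000000000000000000000000000007000000000000000000000000000000008086000000000000000000010000000000000000000000000000000000000002000000000000000000000000000000000000000000010000000200000000000000000000000000000000000000000000000000000000000000000000000000000000000300020001000000000000000000000000000100000000000000000000000100000000000000000000000100000000000000010000000000000000000000000000000000000004000300020001000000000000000000000000000000000000000000000000000000010000000000000000000000000001000000000000000000010001000000000000000100000001000100010001000000000000000100000001000100010001000100010000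
noncomputable def tA6 : Nat := 0x48414b126ec0483048222d10000000000000000047b00000000000006790000000000000000046f0000000000001ac1046b000010c50000000000000000000000000000290c000000000000065d0000000000000459000000000000000000000000000000000656000006580000000000000000000000000000210900000000000000000000064c0000044900000000044800000000044740d11cf7000000000000000006460000000000000000000000000000044100000000170d044000002d0c00000000000000000000000000000000083c000000000435000000000000000000000431000006340000000000000000000000000000062d0000000000000000062700000000000000000000042300000422030e030b030a0000000000000000041f06200304000009000000041d000000000000000000000000041b02fb00000000000002f6000000000418000000000000000000000000000000000000000008e804120000061302e408d9000008db02dd04100000000000000000040f0000000008cb0000040e02c902c602c308bc0000040d02b9000002b402b00000000000000aa50000000000000409060b060a02a2089a00000000029c040700000000089200000406000000000000088d00000405028a028702850000087c027d04040277000002700000000002680000000000000000085a025c04020254024f024a0244000000000836023804010230022b0225021e0000021102080000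
noncomputable def tJ6 : Nat := 0x400020000000000000000000000000000000000000000000000020000000000000000000000000000000000020000000000020000000000000000000000000000000000000000000000020000000000000000000000000000000000000000000000000002000000030000000000000000000000000000000400000000000000000000000200000000000000000000000000000000848500000000000000000000000200000000000000000000000000000000000000000000000000007605000000000000000000000000000000000002000000000000000000000000000000000000000000030000000000000000000000000000000200000000000000000002000000000000000000000000000000000001000100010000000000000000000000020001000000000000000000000000000000000000000000000001000000000000000100000000000000000000000000000000000000000000000000000000000000000002000100000000000000010000000000000000000000000000000000000000000000010001000100000000000000010000000100010000000000000000000000000000000000060002000100000000000000010000000000000000000000000000000000000000000000000001000100010000000000010000000100000001000000000001000000000000000000000001000000010001000100010000000000000001000000010001000100010000000100010000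
noncomputable def tA7 : Nat := 0x48500000000000024ed0000000000000000087f0000067d000000000679000000000675000004700000046e00000000066c000010c3046a5e5204660000066520c616cb230b046100000000085e0000000000000000065c00000458000000000000065600000000000000000000000000000453000000000000065206515c52044f00000000000014ee044a00000000000022ef0000044712f500000000000000000000064600000444000000000000044200000441000000000000000000000000043f0000043e043d0000000000000000000000000000000006380434000000000000063200000000000000000000042f00000000062d00000000042b0000000000000000042500003a75000000003a790000030f000000000000000000000000062009040000041e00000000041d000000000000041c00000000041b02fc000002fa000008f7041902f404180000041702f208f004160000041502ec000000000000061308e400000000041102e200000000041002da02d600000000040f02cf000000000000040e02ca0000000002c40000040d02bb000002b702b5040c02ae02ac02ab000000000000060a08a200000000040802a1000000000407029b0297000000000406029100000000000000000405028c000000000000000000000404027b0278027402710403026b0269026702640262000000000402025902550250024b0245024000000000040102350231022c0226021f021a021202090000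
noncomputable def tJ7 : Nat := 0x5000000030000000000020000000000020000000000000000000000000002000000020000000a000000000002000800000009000000000000000500000000000000000003000000000000000000000002000000000000000000000000000000000000000000000006000269040000000000000000000700000000000000000000000000000000000000000000000000000002000000000000000000000000000000000000000000000000000000000000000000000000000000000000000000000000000000000003000000000000000000020000000000000000000000000000000000020000000000000000000000000000000000007f04000000008084000000010000000000000000000000000002000000000000000000000000000000000000000000000000000000010000000100000000000000010000000000000001000000000000000000010000000000000002000000000000000000010000000000000001000100000000000000010000000000000000000100000000000100000000000100000001000100000001000100010000000000000002000000000000000000010000000000000001000100000000000000010000000000000000000000010000000000000000000000000001000100010001000000010001000100010001000000000000000100010001000100010001000000000000000100010001000100010001000100010000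
noncomputable def tA8 : Nat := 0x48500000cac0000048324ec00000000000000000000047d0000047a00000478047704760474067f00000000000000000000046b18c1046a0ec30000000000000464046318ca0461230b2b0f00000000045c045b00000000000000000000045700000000045500000000045400000000000004530000000000000000000004500000000000000000065e044a1aee0000000004480000000000000cf4000016f6000000004a7f0445044400000443000000000000000000000000000000000440190d00002d0b310f0f0e000000000000043b000004380437000000000000000004330000000004310000000000000000042f000000000000042c0000042b000000000000063a04253a7600003a743a7d04233a78000003100000030c00000421000008fd041f0305041e00000303041d0301030002ff041c02fe0000041b00000000000000000000000002f702f50000000000000000000002f002ef000002ed0000000008cc041202e802e7041102e5000002e1041002de02db02d702d4040f02d1000000000000040e000002cb000002c702c5040d02bd02bc02ba0000000002b102af00000000000002a8088e040902a602a5040802a3000002a00407029d00000298029504060294029200000000000004050000028d00000288000002810404027e027c0279027502720000026c000000000265000002600402025d025a02560251024c02460000023c0401023902360232022d0227022000000213020a0000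
noncomputable def tJ8 : Nat := 0x10000000400000001000100000000000000000000000100000001000000010001000100010003000000000000000000000001000100010001000000000000000100010006000100070005000000000001000100000000000000000000000100000000000100000000000100000000000000010000000000000000000000010000000000000000000300010001000000000001000000000000000400000005000000007e8200010001000000010000000000000000000000000000000000010008000076027582000100000000000000010000000100010000000000000000000100000000000100000000000000000001000000000000000100000001000000000000000300017f8200007f02828200018082000000000000000000000001000000010001000000010000000000010000000000000001000000000001000000000000000000000000000000000000000000000000000000000000000000000000000000010001000000000001000000000000000100000000000000000001000000000000000000010000000000000000000000010000000000000000000000000000000000000000000000010001000000000001000000000000000100000000000000000001000000000000000000000001000000000000000000000000000100000000000000000000000000000000000000000000000000010000000000000000000000000000000000010000000000000000000000000000000000000000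
noncomputable def tA9 : Nat := 0x7aa804790000000000000000000000000000000000000000000000000000000004680000000000000000000000000000000000000000000000000000000000000458000078a804560000000000000000000000000000045300000000000076a800000450000000000000044e0000000000000000000000000000000000000000000000000000000004460000000000000000000000000000000000000000000000000000000000000000000000000000000000000000063c043a0000000000000000000000000000043200000000000000000000042f00000000000076a80000042b000000000000042900000000000004240000000000000000000000000000000000000000042000000000000000000000041d0302000000000000000000000000000000000000000000000000000000000000000002f300000000000000000000000000000000000000000000000004110000000002e3041002e0000002dc02d8040f000002d202d002ce000000000000000000000000000002bf00000000000000000000000000000000000008a8040a02a70000000004080000000000000407029f00000000029900000000000002930000028f0405000000000000028b000000000404028000000000027a000000000000000000000000000000000000025f0000025b025702520000000000000401023b000002370233022e0228022100000214020b0000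
noncomputable def tJ9 : Nat := 0x20001000000000000000000000000000000000000000000000000000000000001000000000000000000000000000000000000000000000000000000000000000100000002000100000000000000000000000000000001000000000000000200000001000000000000000100000000000000000000000000000000000000000000000000000000000100000000000000000000000000000000000000000000000000000000000000000000000000000000000000000003000100000000000000000000000000000001000000000000000000000001000000000000000200000001000000000000000100000000000000010000000000000000000000000000000000000000000100000000000000000000000100000000000000000000000000000000000000000000000000000000000000000000000000000000000000000000000000000000000000000000000000010000000000000001000000000000000000010000000000000000000000000000000000000000000000000000000000000000000000000000000000000001000100000000000000010000000000000001000000000000000000000000000000000000000000010000000000000000000000000001000000000000000000000000000000000000000000000000000000000000000000000000000000000000000100000000000000000000000000000000000000000000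
noncomputable def tA10 : Nat := 0x7c0b36973698369436a6369c369d3ac33ec23e2252ea4ae938894ae44ee14ae038874adb388c388a48be48bb48b948b748b6441034de34dd34d734d638d034c438c034bd34ba34b82eaf2aae2ead70a95ae646896cd4644d545354125edc5a106ed45c525c4d468746886414505050515e115c5f468c468d5c5e743c60075ad0468a6614545666145e5e4e3a44974498449444a6449c449d442744264425442444233e224a3b4a3a46394a364e3546324a30462f4a2c4e29481f481e481d44013439343834323431342f342c2e1a2e197e0b663c66144e2f62a06229522f54095a076e955c2e5c29522b522d502d5c085c3b503552365c3a743c4e30620b543152325c06702e4e5e525a505c4e574e544e535251524f504d424a424942483c4750604c5f4c5e485d485c4c5a4c594c57485648554c544853485148504c4d4646464546444643464242023256325532533250364f324b36473646324532432c402c3f6e3c68146601585a52596257620f580258556a525a0f5c5462025a136e2e5e10584f62135c136a06500a4c0950084c0750064205480a48094c0848074c0646043209320736063202800b640b68025836523560336006580158316c2e5a065a3060015a0a720b5c07582b600a5c0a680f501450134c1250114c10500f400e4e144a134a124e114a104a0f440d30123010340f340e340d2e0c6c0b640256116010660f6c064e014a01340182015e0156085e075e066e014e024c0232026a0100000000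
noncomputable def tJ10 : Nat := 0x40570256805600580057045700002d4106411240813f01868e3e833d003c85858e3c84878e870e39013803378437033701368635803584350035823405338b332c3200318031823080002a308230012e8161022da82d0146362e152c112c8652ba2b052b01609d608c2a05450f451c2c1629856190618c2981292828a6280561042791463527116f893fb2428f429c421a421b418f419a23802383238423862382412e23052301633023043d9263102184650c3a1221012083208420862381200020041f8020061f8220023117309788c11d801da6248a1b801b014c0d1c151a86198019051901250a260a4a131a1617853d9f261d178117003b9f15914e154c3317a419bd5f0f138444a0120512041202138212825b1b11041106110285041080100583036f09740d100482040e856f136f0d80006b8d6893688d0e010d800d830d840d860d8211010c800d060c820d020c040d0179030b000d0b0c8b760676030a007024273709005db408850894722109096c382c8a1a086ca52c8c6e292c230902089e2b09520866010f870f070e87070284085e835e805e005d007d31590b55995519560355ab54c21ba76a880480531404050414512104892d881a8a16204d251a8c14bf1a230482041e190969b9028547012287220721870282412f02053f033f003e003c803a80368b3118309834833383320331031d3c15882e102c2227161d290207230020031e43480a1c101a22152714be068710000d032f3b00000000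
noncomputable def tP : Nat := 0x152485842ba11908883841b209904a8204099f8cfb07b63d41e64f107783b41d20e4670737b1b9cdc66d535c1ad8d506a7344999ccc264831c18d0c3061730a180cba65c82dc168cb305962c4961caf05692b19560aac5492a4151ca8a53929c14dca665282899424a104f927b93a49aa4c3254129c92c49424412188f047723b11d48e8471234918c8b044822390e086c434213908c82e41620a90488104061fc0fdc7e83e71eb8f547863b81d48e206f03631ac0d5868e3381948c8c6303161838c145f22f817b8bcc5d02c815c8ae056e2a414c89cc4b0257124891848823811b08cc44c225112088443020910187e03ec1e80f387643b01d70eb07503901c70e186e036e1b60da86d03641980cb865030e1860bb85c82d01670b2855c2aa14809c84cc25012608c846022e115084842020e10608203e41f00f707b03d41e60e807383981ca0e407103601ae0d606a83501a60c706283101800b8054828c130096044822010e08503c81e00ee07603a01a40d006703301940c605902c015c0ac05502a0148092048023811808a04402180dc06a03401980c8060029014009c04c025012008c04402100c806002e01600a80500260120088040000000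
def par : Par := ⟨16, 9, 65535, 511, 66047, 65536⟩
def tabs : Nat → Nat
  | 0 => tA0
  | 1 => tA1
  | 2 => tA2
  | 3 => tA3
  | 4 => tA4
  | 5 => tA5
  | 6 => tA6
  | 7 => tA7
  | 8 => tA8
  | 9 => tA9
  | 10 => tA10
  | _ => 0
def pe (u : Nat) : Nat := Nat.land (Nat.shiftRight tP (Nat.mul u 13)) 8191
def je0 (v : Nat) : Nat := Nat.land (Nat.shiftRight tJ0 (Nat.mul v 16)) 65535
def stp0 (off v : Nat) : Nat := Nat.land (Nat.add (Nat.land (Nat.shiftRight tA0 (Nat.mul v 16)) 65535) off) 66047
theorem stp0_eq : ∀ off v, stp0 off v = step par (tabs 0) off v := fun _ _ => rfl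
attribute [irreducible] stp0
def je1 (v : Nat) : Nat := Nat.land (Nat.shiftRight tJ1 (Nat.mul v 16)) 65535
def stp1 (off v : Nat) : Nat := Nat.land (Nat.add (Nat.land (Nat.shiftRight tA1 (Nat.mul v 16)) 65535) off) 66047
theorem stp1_eq : ∀ off v, stp1 off v = step par (tabs 1) off v := fun _ _ => rfl
attribute [irreducible] stp1
def je2 (v : Nat) : Nat := Nat.land (Nat.shiftRight tJ2 (Nat.mul v 16)) 65535
def stp2 (off v : Nat) : Nat := Nat.land (Nat.add (Nat.land (Nat.shiftRight tA2 (Nat.mul v 16)) 65535) off) 66047
theorem stp2_eq : ∀ off v, stp2 off v = step par (tabs 2) off v := fun _ _ => rfl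
attribute [irreducible] stp2
def je3 (v : Nat) : Nat := Nat.land (Nat.shiftRight tJ3 (Nat.mul v 16)) 65535
def stp3 (off v : Nat) : Nat := Nat.land (Nat.add (Nat.land (Nat.shiftRight tA3 (Nat.mul v 16)) 65535) off) 66047
theorem stp3_eq : ∀ off v, stp3 off v = step par (tabs 3) off v := fun _ _ => rfl
attribute [irreducible] stp3
def je4 (v : Nat) : Nat := Nat.land (Nat.shiftRight tJ4 (Nat.mul v 16)) 65535
def stp4 (off v : Nat) : Nat := Nat.land (Nat.add (Nat.land (Nat.shiftRight tA4 (Nat.mul v 16)) 65535) off) 66047
theorem stp4_eq : ∀ off v, stp4 off v = step par (tabs 4) off v := fun _ _ => rfl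
attribute [irreducible] stp4
def je5 (v : Nat) : Nat := Nat.land (Nat.shiftRight tJ5 (Nat.mul v 16)) 65535
def stp5 (off v : Nat) : Nat := Nat.land (Nat.add (Nat.land (Nat.shiftRight tA5 (Nat.mul v 16)) 65535) off) 66047
theorem stp5_eq : ∀ off v, stp5 off v = step par (tabs 5) off v := fun _ _ => rfl
attribute [irreducible] stp5
def je6 (v : Nat) : Nat := Nat.land (Nat.shiftRight tJ6 (Nat.mul v 16)) 65535
def stp6 (off v : Nat) : Nat := Nat.land (Nat.add (Nat.land (Nat.shiftRight tA6 (Nat.mul v 16)) 65535) off) 66047
theorem stp6_eq : ∀ off v, stp6 off v = step par (tabs 6) off v := fun _ _ => rfl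
attribute [irreducible] stp6
def je7 (v : Nat) : Nat := Nat.land (Nat.shiftRight tJ7 (Nat.mul v 16)) 65535
def stp7 (off v : Nat) : Nat := Nat.land (Nat.add (Nat.land (Nat.shiftRight tA7 (Nat.mul v 16)) 65535) off) 66047
theorem stp7_eq : ∀ off v, stp7 off v = step par (tabs 7) off v := fun _ _ => rfl
attribute [irreducible] stp7
def je8 (v : Nat) : Nat := Nat.land (Nat.shiftRight tJ8 (Nat.mul v 16)) 65535
def stp8 (off v : Nat) : Nat := Nat.land (Nat.add (Nat.land (Nat.shiftRight tA8 (Nat.mul v 16)) 65535) off) 66047
theorem stp8_eq : ∀ off v, stp8 off v = step par (tabs 8) off v := fun _ _ => rfl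
attribute [irreducible] stp8
def je9 (v : Nat) : Nat := Nat.land (Nat.shiftRight tJ9 (Nat.mul v 16)) 65535
def stp9 (off v : Nat) : Nat := Nat.land (Nat.add (Nat.land (Nat.shiftRight tA9 (Nat.mul v 16)) 65535) off) 66047
theorem stp9_eq : ∀ off v, stp9 off v = step par (tabs 9) off v := fun _ _ => rfl
attribute [irreducible] stp9
def je10 (v : Nat) : Nat := Nat.land (Nat.shiftRight tJ10 (Nat.mul v 16)) 65535
def stp10 (off v : Nat) : Nat := Nat.land (Nat.add (Nat.land (Nat.shiftRight tA10 (Nat.mul v 16)) 65535) off) 66047
theorem stp10_eq : ∀ off v, stp10 off v = step par (tabs 10) off v := fun _ _ => rfl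
attribute [irreducible] stp10
def je : Nat → Nat → Nat
  | 0 => je0
  | 1 => je1
  | 2 => je2
  | 3 => je3
  | 4 => je4
  | 5 => je5
  | 6 => je6
  | 7 => je7
  | 8 => je8
  | 9 => je9
  | 10 => je10
  | _ => fun _ => 0
def st : Nat → Nat → Nat → Nat
  | 0 => stp0
  | 1 => stp1
  | 2 => stp2
  | 3 => stp3
  | 4 => stp4
  | 5 => stp5
  | 6 => stp6
  | 7 => stp7
  | 8 => stp8
  | 9 => stp9
  | 10 => stp10
  | _ => fun off v => step par 0 off v
theorem hst : ∀ l off v, st l off v = step par (tabs l) off v := by
  intro l off v
  rcases Nat.lt_or_ge l 11 with h | h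
  · interval_cases l
    exacts [stp0_eq off v, stp1_eq off v, stp2_eq off v, stp3_eq off v, stp4_eq off v, stp5_eq off v, stp6_eq off v, stp7_eq off v, stp8_eq off v, stp9_eq off v, stp10_eq off v]
  · obtain ⟨k, rfl⟩ : ∃ k, l = k + 11 := ⟨l - 11, by omega⟩
    rfl
def lf0_0 : Leaf (walkS st) := ⟨[0], [], 0, 0, (fun off v => (stp0 off v)), (fun _ v => v), (fun _ u _ => u), fun _ _ => rfl, fun _ _ => rfl⟩
def lf0_1 : Leaf (walkS st) := ⟨[], [7, 0, 7], 17, 2, (fun _ v => v), (fun off v => (stp7 off (stp0 off (stp7 off v)))), (fun v _ _ => v), fun _ _ => rfl, fun _ _ => rfl⟩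
def lf0_2 : Leaf (walkS st) := ⟨[], [6, 0, 6], 16, 2, (fun _ v => v), (fun off v => (stp6 off (stp0 off (stp6 off v)))), (fun v _ _ => v), fun _ _ => rfl, fun _ _ => rfl⟩
def lf0_4 : Leaf (walkS st) := ⟨[], [4, 0, 4], 14, 2, (fun _ v => v), (fun off v => (stp4 off (stp0 off (stp4 off v)))), (fun v _ _ => v), fun _ _ => rfl, fun _ _ => rfl⟩
def lf0_5 : Leaf (walkS st) := ⟨[], [5, 0, 5], 15, 2, (fun _ v => v), (fun off v => (stp5 off (stp0 off (stp5 off v)))), (fun v _ _ => v), fun _ _ => rfl, fun _ _ => rfl⟩
def lf0_6 : Leaf (walkS st) := ⟨[], [8, 0, 8], 18, 2, (fun _ v => v), (fun off v => (stp8 off (stp0 off (stp8 off v)))), (fun v _ _ => v), fun _ _ => rfl, fun _ _ => rfl⟩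
def lf0_7 : Leaf (walkS st) := ⟨[], [3, 0, 3], 13, 2, (fun _ v => v), (fun off v => (stp3 off (stp0 off (stp3 off v)))), (fun v _ _ => v), fun _ _ => rfl, fun _ _ => rfl⟩
def lf0_8 : Leaf (walkS st) := ⟨[], [9, 0, 9], 19, 2, (fun _ v => v), (fun off v => (stp9 off (stp0 off (stp9 off v)))), (fun v _ _ => v), fun _ _ => rfl, fun _ _ => rfl⟩
def lf0_9 : Leaf (walkS st) := ⟨[], [2, 0, 2], 12, 2, (fun _ v => v), (fun off v => (stp2 off (stp0 off (stp2 off v)))), (fun v _ _ => v), fun _ _ => rfl, fun _ _ => rfl⟩
def tree0 : RTree (walkS st) :=
  (.node 2 (.node 1 (.fork lf0_0) (.fork lf0_1)) (.node 5 (.node 3 (.fork lf0_2) (.node 4 .tleaf (.fork lf0_4))) (.node 7 (.node 6 (.fork lf0_5) (.fork lf0_6)) (.node 8 (.fork lf0_7) (.node 9 (.fork lf0_8) (.fork lf0_9))))))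
def lf1_0 : Leaf (walkS st) := ⟨[1], [], 1, 0, (fun off v => (stp1 off v)), (fun _ v => v), (fun _ u _ => u), fun _ _ => rfl, fun _ _ => rfl⟩
def lf1_2 : Leaf (walkS st) := ⟨[], [7, 1, 7], 25, 2, (fun _ v => v), (fun off v => (stp7 off (stp1 off (stp7 off v)))), (fun v _ _ => v), fun _ _ => rfl, fun _ _ => rfl⟩
def lf1_3 : Leaf (walkS st) := ⟨[], [5, 1, 5], 23, 2, (fun _ v => v), (fun off v => (stp5 off (stp1 off (stp5 off v)))), (fun v _ _ => v), fun _ _ => rfl, fun _ _ => rfl⟩
def lf1_4 : Leaf (walkS st) := ⟨[], [6, 1, 6], 24, 2, (fun _ v => v), (fun off v => (stp6 off (stp1 off (stp6 off v)))), (fun v _ _ => v), fun _ _ => rfl, fun _ _ => rfl⟩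
def lf1_5 : Leaf (walkS st) := ⟨[], [4, 1, 4], 22, 2, (fun _ v => v), (fun off v => (stp4 off (stp1 off (stp4 off v)))), (fun v _ _ => v), fun _ _ => rfl, fun _ _ => rfl⟩
def lf1_6 : Leaf (walkS st) := ⟨[], [3, 1, 3], 21, 2, (fun _ v => v), (fun off v => (stp3 off (stp1 off (stp3 off v)))), (fun v _ _ => v), fun _ _ => rfl, fun _ _ => rfl⟩
def lf1_7 : Leaf (walkS st) := ⟨[], [8, 1, 8], 26, 2, (fun _ v => v), (fun off v => (stp8 off (stp1 off (stp8 off v)))), (fun v _ _ => v), fun _ _ => rfl, fun _ _ => rfl⟩
def lf1_8 : Leaf (walkS st) := ⟨[], [9, 1, 9], 27, 2, (fun _ v => v), (fun off v => (stp9 off (stp1 off (stp9 off v)))), (fun v _ _ => v), fun _ _ => rfl, fun _ _ => rfl⟩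
def lf1_9 : Leaf (walkS st) := ⟨[], [0, 1, 0, 1, 0], 11, 1, (fun _ v => v), (fun off v => (stp0 off (stp1 off (stp0 off (stp1 off (stp0 off v)))))), (fun v _ _ => v), fun _ _ => rfl, fun _ _ => rfl⟩
def lf1_10 : Leaf (walkS st) := ⟨[], [10, 1], 1, 0, (fun _ v => v), (fun off v => (stp1 off (stp10 off v))), (fun v _ _ => v), fun _ _ => rfl, fun _ _ => rfl⟩
def tree1 : RTree (walkS st) :=
  (.node 2 (.node 1 (.fork lf1_0) .tleaf) (.node 4 (.node 3 (.fork lf1_2) (.fork lf1_3)) (.node 6 (.node 5 (.fork lf1_4) (.fork lf1_5)) (.node 8 (.node 7 (.fork lf1_6) (.fork lf1_7)) (.node 9 (.fork lf1_8) (.node 10 (.fork lf1_9) (.fork lf1_10)))))))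
def lf2_0 : Leaf (walkS st) := ⟨[2], [], 2, 0, (fun off v => (stp2 off v)), (fun _ v => v), (fun _ u _ => u), fun _ _ => rfl, fun _ _ => rfl⟩
def lf2_1 : Leaf (walkS st) := ⟨[], [8, 2, 8], 33, 2, (fun _ v => v), (fun off v => (stp8 off (stp2 off (stp8 off v)))), (fun v _ _ => v), fun _ _ => rfl, fun _ _ => rfl⟩
def lf2_3 : Leaf (walkS st) := ⟨[], [7, 2, 7], 32, 2, (fun _ v => v), (fun off v => (stp7 off (stp2 off (stp7 off v)))), (fun v _ _ => v), fun _ _ => rfl, fun _ _ => rfl⟩
def lf2_4 : Leaf (walkS st) := ⟨[], [4, 2, 4], 29, 2, (fun _ v => v), (fun off v => (stp4 off (stp2 off (stp4 off v)))), (fun v _ _ => v), fun _ _ => rfl, fun _ _ => rfl⟩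
def lf2_5 : Leaf (walkS st) := ⟨[], [5, 2, 5], 30, 2, (fun _ v => v), (fun off v => (stp5 off (stp2 off (stp5 off v)))), (fun v _ _ => v), fun _ _ => rfl, fun _ _ => rfl⟩
def lf2_6 : Leaf (walkS st) := ⟨[], [6, 2, 6], 31, 2, (fun _ v => v), (fun off v => (stp6 off (stp2 off (stp6 off v)))), (fun v _ _ => v), fun _ _ => rfl, fun _ _ => rfl⟩
def lf2_7 : Leaf (walkS st) := ⟨[], [9, 2, 9], 34, 2, (fun _ v => v), (fun off v => (stp9 off (stp2 off (stp9 off v)))), (fun v _ _ => v), fun _ _ => rfl, fun _ _ => rfl⟩
def lf2_8 : Leaf (walkS st) := ⟨[], [10, 2], 2, 0, (fun _ v => v), (fun off v => (stp2 off (stp10 off v))), (fun v _ _ => v), fun _ _ => rfl, fun _ _ => rfl⟩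
def lf2_9 : Leaf (walkS st) := ⟨[], [1, 2, 1, 2, 1], 20, 1, (fun _ v => v), (fun off v => (stp1 off (stp2 off (stp1 off (stp2 off (stp1 off v)))))), (fun v _ _ => v), fun _ _ => rfl, fun _ _ => rfl⟩
def tree2 : RTree (walkS st) :=
  (.node 2 (.node 1 (.fork lf2_0) (.fork lf2_1)) (.node 5 (.node 3 .tleaf (.node 4 (.fork lf2_3) (.fork lf2_4))) (.node 7 (.node 6 (.fork lf2_5) (.fork lf2_6)) (.node 8 (.fork lf2_7) (.node 9 (.fork lf2_8) (.fork lf2_9))))))
def lf3_0 : Leaf (walkS st) := ⟨[3], [], 3, 0, (fun off v => (stp3 off v)), (fun _ v => v), (fun _ u _ => u), fun _ _ => rfl, fun _ _ => rfl⟩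
def lf3_2 : Leaf (walkS st) := ⟨[], [7, 3, 7], 38, 2, (fun _ v => v), (fun off v => (stp7 off (stp3 off (stp7 off v)))), (fun v _ _ => v), fun _ _ => rfl, fun _ _ => rfl⟩
def lf3_3 : Leaf (walkS st) := ⟨[], [5, 3, 5], 36, 2, (fun _ v => v), (fun off v => (stp5 off (stp3 off (stp5 off v)))), (fun v _ _ => v), fun _ _ => rfl, fun _ _ => rfl⟩
def lf3_4 : Leaf (walkS st) := ⟨[], [6, 3, 6], 37, 2, (fun _ v => v), (fun off v => (stp6 off (stp3 off (stp6 off v)))), (fun v _ _ => v), fun _ _ => rfl, fun _ _ => rfl⟩
def lf3_5 : Leaf (walkS st) := ⟨[], [9, 3, 9], 40, 2, (fun _ v => v), (fun off v => (stp9 off (stp3 off (stp9 off v)))), (fun v _ _ => v), fun _ _ => rfl, fun _ _ => rfl⟩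
def lf3_6 : Leaf (walkS st) := ⟨[], [2, 3, 2, 3, 2], 28, 1, (fun _ v => v), (fun off v => (stp2 off (stp3 off (stp2 off (stp3 off (stp2 off v)))))), (fun v _ _ => v), fun _ _ => rfl, fun _ _ => rfl⟩
def lf3_7 : Leaf (walkS st) := ⟨[10], [3], 3, 0, (fun off v => (stp10 off v)), (fun off v => (stp3 off v)), (fun _ _ p => p), fun _ _ => rfl, fun _ _ => rfl⟩
def tree3 : RTree (walkS st) :=
  (.node 1 (.fork lf3_0) (.node 2 .tleaf (.node 4 (.node 3 (.fork lf3_2) (.fork lf3_3)) (.node 5 (.fork lf3_4) (.node 6 (.fork lf3_5) (.node 7 (.fork lf3_6) (.fork lf3_7)))))))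
def lf4_0 : Leaf (walkS st) := ⟨[4], [], 4, 0, (fun off v => (stp4 off v)), (fun _ v => v), (fun _ u _ => u), fun _ _ => rfl, fun _ _ => rfl⟩
def lf4_2 : Leaf (walkS st) := ⟨[], [7, 4, 7], 43, 2, (fun _ v => v), (fun off v => (stp7 off (stp4 off (stp7 off v)))), (fun v _ _ => v), fun _ _ => rfl, fun _ _ => rfl⟩
def lf4_3 : Leaf (walkS st) := ⟨[], [8, 4, 8], 44, 2, (fun _ v => v), (fun off v => (stp8 off (stp4 off (stp8 off v)))), (fun v _ _ => v), fun _ _ => rfl, fun _ _ => rfl⟩
def lf4_4 : Leaf (walkS st) := ⟨[], [6, 4, 6], 42, 2, (fun _ v => v), (fun off v => (stp6 off (stp4 off (stp6 off v)))), (fun v _ _ => v), fun _ _ => rfl, fun _ _ => rfl⟩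
def lf4_5 : Leaf (walkS st) := ⟨[], [9, 4, 9], 45, 2, (fun _ v => v), (fun off v => (stp9 off (stp4 off (stp9 off v)))), (fun v _ _ => v), fun _ _ => rfl, fun _ _ => rfl⟩
def lf4_6 : Leaf (walkS st) := ⟨[10], [4], 4, 0, (fun off v => (stp10 off v)), (fun off v => (stp4 off v)), (fun _ _ p => p), fun _ _ => rfl, fun _ _ => rfl⟩
def lf4_7 : Leaf (walkS st) := ⟨[], [3, 4, 3, 4, 3], 35, 1, (fun _ v => v), (fun off v => (stp3 off (stp4 off (stp3 off (stp4 off (stp3 off v)))))), (fun v _ _ => v), fun _ _ => rfl, fun _ _ => rfl⟩
def lf4_8 : Leaf (walkS st) := ⟨[], [1, 4, 1], 22, 3, (fun _ v => v), (fun off v => (stp1 off (stp4 off (stp1 off v)))), (fun v _ _ => v), fun _ _ => rfl, fun _ _ => rfl⟩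
def tree4 : RTree (walkS st) :=
  (.node 1 (.fork lf4_0) (.node 3 (.node 2 .tleaf (.fork lf4_2)) (.node 5 (.node 4 (.fork lf4_3) (.fork lf4_4)) (.node 6 (.fork lf4_5) (.node 7 (.fork lf4_6) (.node 8 (.fork lf4_7) (.fork lf4_8)))))))
def lf5_0 : Leaf (walkS st) := ⟨[5], [], 5, 0, (fun off v => (stp5 off v)), (fun _ v => v), (fun _ u _ => u), fun _ _ => rfl, fun _ _ => rfl⟩
def lf5_2 : Leaf (walkS st) := ⟨[], [7, 5, 7], 47, 2, (fun _ v => v), (fun off v => (stp7 off (stp5 off (stp7 off v)))), (fun v _ _ => v), fun _ _ => rfl, fun _ _ => rfl⟩
def lf5_3 : Leaf (walkS st) := ⟨[], [8, 5, 8], 48, 2, (fun _ v => v), (fun off v => (stp8 off (stp5 off (stp8 off v)))), (fun v _ _ => v), fun _ _ => rfl, fun _ _ => rfl⟩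
def lf5_4 : Leaf (walkS st) := ⟨[], [9, 5, 9], 49, 2, (fun _ v => v), (fun off v => (stp9 off (stp5 off (stp9 off v)))), (fun v _ _ => v), fun _ _ => rfl, fun _ _ => rfl⟩
def lf5_5 : Leaf (walkS st) := ⟨[], [3, 5, 3], 36, 1, (fun _ v => v), (fun off v => (stp3 off (stp5 off (stp3 off v)))), (fun v _ _ => v), fun _ _ => rfl, fun _ _ => rfl⟩
def lf5_6 : Leaf (walkS st) := ⟨[10], [5], 5, 0, (fun off v => (stp10 off v)), (fun off v => (stp5 off v)), (fun _ _ p => p), fun _ _ => rfl, fun _ _ => rfl⟩
def lf5_7 : Leaf (walkS st) := ⟨[], [4, 5, 4, 5, 4], 41, 1, (fun _ v => v), (fun off v => (stp4 off (stp5 off (stp4 off (stp5 off (stp4 off v)))))), (fun v _ _ => v), fun _ _ => rfl, fun _ _ => rfl⟩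
def lf5_8 : Leaf (walkS st) := ⟨[], [10, 5], 5, 0, (fun _ v => v), (fun off v => (stp5 off (stp10 off v))), (fun v _ _ => v), fun _ _ => rfl, fun _ _ => rfl⟩
def tree5 : RTree (walkS st) :=
  (.node 1 (.fork lf5_0) (.node 2 .tleaf (.node 4 (.node 3 (.fork lf5_2) (.fork lf5_3)) (.node 5 (.fork lf5_4) (.node 6 (.fork lf5_5) (.node 7 (.fork lf5_6) (.node 8 (.fork lf5_7) (.fork lf5_8))))))))
def lf6_0 : Leaf (walkS st) := ⟨[6], [], 6, 0, (fun off v => (stp6 off v)), (fun _ v => v), (fun _ u _ => u), fun _ _ => rfl, fun _ _ => rfl⟩
def lf6_2 : Leaf (walkS st) := ⟨[], [8, 6, 8], 51, 2, (fun _ v => v), (fun off v => (stp8 off (stp6 off (stp8 off v)))), (fun v _ _ => v), fun _ _ => rfl, fun _ _ => rfl⟩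
def lf6_3 : Leaf (walkS st) := ⟨[], [5, 6, 5, 6, 5], 46, 1, (fun _ v => v), (fun off v => (stp5 off (stp6 off (stp5 off (stp6 off (stp5 off v)))))), (fun v _ _ => v), fun _ _ => rfl, fun _ _ => rfl⟩
def lf6_4 : Leaf (walkS st) := ⟨[], [4, 6, 4], 42, 3, (fun _ v => v), (fun off v => (stp4 off (stp6 off (stp4 off v)))), (fun v _ _ => v), fun _ _ => rfl, fun _ _ => rfl⟩
def lf6_5 : Leaf (walkS st) := ⟨[10], [6], 6, 0, (fun off v => (stp10 off v)), (fun off v => (stp6 off v)), (fun _ _ p => p), fun _ _ => rfl, fun _ _ => rfl⟩
def lf6_6 : Leaf (walkS st) := ⟨[], [9, 6, 9], 52, 2, (fun _ v => v), (fun off v => (stp9 off (stp6 off (stp9 off v)))), (fun v _ _ => v), fun _ _ => rfl, fun _ _ => rfl⟩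
def tree6 : RTree (walkS st) :=
  (.node 1 (.fork lf6_0) (.node 2 .tleaf (.node 3 (.fork lf6_2) (.node 5 (.node 4 (.fork lf6_3) (.fork lf6_4)) (.node 6 (.fork lf6_5) (.fork lf6_6))))))
def lf7_0 : Leaf (walkS st) := ⟨[7], [], 7, 0, (fun off v => (stp7 off v)), (fun _ v => v), (fun _ u _ => u), fun _ _ => rfl, fun _ _ => rfl⟩
def lf7_2 : Leaf (walkS st) := ⟨[], [8, 7, 8], 53, 2, (fun _ v => v), (fun off v => (stp8 off (stp7 off (stp8 off v)))), (fun v _ _ => v), fun _ _ => rfl, fun _ _ => rfl⟩
def lf7_3 : Leaf (walkS st) := ⟨[], [6, 7, 6, 7, 6], 50, 1, (fun _ v => v), (fun off v => (stp6 off (stp7 off (stp6 off (stp7 off (stp6 off v)))))), (fun v _ _ => v), fun _ _ => rfl, fun _ _ => rfl⟩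
def lf7_4 : Leaf (walkS st) := ⟨[10], [7], 7, 0, (fun off v => (stp10 off v)), (fun off v => (stp7 off v)), (fun _ _ p => p), fun _ _ => rfl, fun _ _ => rfl⟩
def lf7_5 : Leaf (walkS st) := ⟨[], [3, 7, 3], 38, 1, (fun _ v => v), (fun off v => (stp3 off (stp7 off (stp3 off v)))), (fun v _ _ => v), fun _ _ => rfl, fun _ _ => rfl⟩
def lf7_6 : Leaf (walkS st) := ⟨[], [9, 7, 9], 54, 2, (fun _ v => v), (fun off v => (stp9 off (stp7 off (stp9 off v)))), (fun v _ _ => v), fun _ _ => rfl, fun _ _ => rfl⟩
def lf7_7 : Leaf (walkS st) := ⟨[], [2, 7, 2], 32, 1, (fun _ v => v), (fun off v => (stp2 off (stp7 off (stp2 off v)))), (fun v _ _ => v), fun _ _ => rfl, fun _ _ => rfl⟩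
def lf7_8 : Leaf (walkS st) := ⟨[], [4, 7, 4], 43, 1, (fun _ v => v), (fun off v => (stp4 off (stp7 off (stp4 off v)))), (fun v _ _ => v), fun _ _ => rfl, fun _ _ => rfl⟩
def lf7_9 : Leaf (walkS st) := ⟨[], [0, 7, 0], 17, 3, (fun _ v => v), (fun off v => (stp0 off (stp7 off (stp0 off v)))), (fun v _ _ => v), fun _ _ => rfl, fun _ _ => rfl⟩
def lf7_10 : Leaf (walkS st) := ⟨[], [10, 7], 7, 0, (fun _ v => v), (fun off v => (stp7 off (stp10 off v))), (fun v _ _ => v), fun _ _ => rfl, fun _ _ => rfl⟩
def tree7 : RTree (walkS st) :=
  (.node 1 (.fork lf7_0) (.node 2 .tleaf (.node 3 (.fork lf7_2) (.node 5 (.node 4 (.fork lf7_3) (.fork lf7_4)) (.node 7 (.node 6 (.fork lf7_5) (.fork lf7_6)) (.node 9 (.node 8 (.fork lf7_7) (.fork lf7_8)) (.node 10 (.fork lf7_9) (.fork lf7_10))))))))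
def lf8_1 : Leaf (walkS st) := ⟨[8], [], 8, 0, (fun off v => (stp8 off v)), (fun _ v => v), (fun _ u _ => u), fun _ _ => rfl, fun _ _ => rfl⟩
def lf8_2 : Leaf (walkS st) := ⟨[10], [8], 8, 0, (fun off v => (stp10 off v)), (fun off v => (stp8 off v)), (fun _ _ p => p), fun _ _ => rfl, fun _ _ => rfl⟩
def lf8_3 : Leaf (walkS st) := ⟨[], [3, 8, 3, 8, 3], 39, 1, (fun _ v => v), (fun off v => (stp3 off (stp8 off (stp3 off (stp8 off (stp3 off v)))))), (fun v _ _ => v), fun _ _ => rfl, fun _ _ => rfl⟩
def lf8_4 : Leaf (walkS st) := ⟨[], [6, 3, 2, 3, 8, 9, 2, 5, 9, 8, 0, 7, 1, 4], 58, 11, (fun _ v => v), (fun off v => (stp4 off (stp1 off (stp7 off (stp0 off (stp8 off (stp9 off (stp5 off (stp2 off (stp9 off (stp8 off (stp3 off (stp2 off (stp3 off (stp6 off v))))))))))))))), (fun v _ _ => v), fun _ _ => rfl, fun _ _ => rfl⟩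
def lf8_5 : Leaf (walkS st) := ⟨[], [4, 8, 4], 44, 3, (fun _ v => v), (fun off v => (stp4 off (stp8 off (stp4 off v)))), (fun v _ _ => v), fun _ _ => rfl, fun _ _ => rfl⟩
def lf8_6 : Leaf (walkS st) := ⟨[], [7, 8, 7], 53, 1, (fun _ v => v), (fun off v => (stp7 off (stp8 off (stp7 off v)))), (fun v _ _ => v), fun _ _ => rfl, fun _ _ => rfl⟩
def lf8_7 : Leaf (walkS st) := ⟨[], [0, 8, 0], 18, 3, (fun _ v => v), (fun off v => (stp0 off (stp8 off (stp0 off v)))), (fun v _ _ => v), fun _ _ => rfl, fun _ _ => rfl⟩
def lf8_8 : Leaf (walkS st) := ⟨[], [6, 8, 6], 51, 3, (fun _ v => v), (fun off v => (stp6 off (stp8 off (stp6 off v)))), (fun v _ _ => v), fun _ _ => rfl, fun _ _ => rfl⟩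
def tree8 : RTree (walkS st) :=
  (.node 1 .tleaf (.node 2 (.fork lf8_1) (.node 3 (.fork lf8_2) (.node 5 (.node 4 (.fork lf8_3) (.fork lf8_4)) (.node 6 (.fork lf8_5) (.node 7 (.fork lf8_6) (.node 8 (.fork lf8_7) (.fork lf8_8))))))))
def lf9_1 : Leaf (walkS st) := ⟨[9], [], 9, 0, (fun off v => (stp9 off v)), (fun _ v => v), (fun _ u _ => u), fun _ _ => rfl, fun _ _ => rfl⟩
def lf9_2 : Leaf (walkS st) := ⟨[], [10, 9], 9, 0, (fun _ v => v), (fun off v => (stp9 off (stp10 off v))), (fun v _ _ => v), fun _ _ => rfl, fun _ _ => rfl⟩
def lf9_3 : Leaf (walkS st) := ⟨[], [8, 9, 8, 9, 8], 55, 1, (fun _ v => v), (fun off v => (stp8 off (stp9 off (stp8 off (stp9 off (stp8 off v)))))), (fun v _ _ => v), fun _ _ => rfl, fun _ _ => rfl⟩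
def tree9 : RTree (walkS st) :=
  (.node 1 .tleaf (.node 2 (.fork lf9_1) (.node 3 (.fork lf9_2) (.fork lf9_3))))
def lf10_0 : Leaf (walkS st) := ⟨[8], [10, 8], 8, 0, (fun off v => (stp8 off v)), (fun off v => (stp8 off (stp10 off v))), (fun _ _ p => p), fun _ _ => rfl, fun _ _ => rfl⟩
def lf10_1 : Leaf (walkS st) := ⟨[3], [10, 3], 3, 0, (fun off v => (stp3 off v)), (fun off v => (stp3 off (stp10 off v))), (fun _ _ p => p), fun _ _ => rfl, fun _ _ => rfl⟩
def lf10_2 : Leaf (walkS st) := ⟨[4], [10, 4], 4, 0, (fun off v => (stp4 off v)), (fun off v => (stp4 off (stp10 off v))), (fun _ _ p => p), fun _ _ => rfl, fun _ _ => rfl⟩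
def lf10_3 : Leaf (walkS st) := ⟨[7], [10, 7], 7, 0, (fun off v => (stp7 off v)), (fun off v => (stp7 off (stp10 off v))), (fun _ _ p => p), fun _ _ => rfl, fun _ _ => rfl⟩
def lf10_4 : Leaf (walkS st) := ⟨[6], [10, 6], 6, 0, (fun off v => (stp6 off v)), (fun off v => (stp6 off (stp10 off v))), (fun _ _ p => p), fun _ _ => rfl, fun _ _ => rfl⟩
def lf10_5 : Leaf (walkS st) := ⟨[9], [10, 9], 9, 0, (fun off v => (stp9 off v)), (fun off v => (stp9 off (stp10 off v))), (fun _ _ p => p), fun _ _ => rfl, fun _ _ => rfl⟩
def lf10_6 : Leaf (walkS st) := ⟨[5], [10, 5], 5, 0, (fun off v => (stp5 off v)), (fun off v => (stp5 off (stp10 off v))), (fun _ _ p => p), fun _ _ => rfl, fun _ _ => rfl⟩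
def lf10_7 : Leaf (walkS st) := ⟨[10, 3], [3, 10, 10], 3, 0, (fun off v => (stp3 off (stp10 off v))), (fun off v => (stp10 off (stp10 off (stp3 off v)))), (fun _ _ p => p), fun _ _ => rfl, fun _ _ => rfl⟩
def lf10_8 : Leaf (walkS st) := ⟨[0, 10], [10, 10, 0], 0, 0, (fun off v => (stp10 off (stp0 off v))), (fun off v => (stp0 off (stp10 off (stp10 off v)))), (fun _ _ p => p), fun _ _ => rfl, fun _ _ => rfl⟩
def lf10_9 : Leaf (walkS st) := ⟨[10, 5], [5], 5, 0, (fun off v => (stp5 off (stp10 off v))), (fun off v => (stp5 off v)), (fun _ _ p => p), fun _ _ => rfl, fun _ _ => rfl⟩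
def lf10_10 : Leaf (walkS st) := ⟨[4, 10], [10, 4], 4, 0, (fun off v => (stp10 off (stp4 off v))), (fun off v => (stp4 off (stp10 off v))), (fun _ _ p => p), fun _ _ => rfl, fun _ _ => rfl⟩
def lf10_11 : Leaf (walkS st) := ⟨[2], [10, 2], 2, 0, (fun off v => (stp2 off v)), (fun off v => (stp2 off (stp10 off v))), (fun _ _ p => p), fun _ _ => rfl, fun _ _ => rfl⟩
def lf10_12 : Leaf (walkS st) := ⟨[8, 10], [10, 8], 8, 0, (fun off v => (stp10 off (stp8 off v))), (fun off v => (stp8 off (stp10 off v))), (fun _ _ p => p), fun _ _ => rfl, fun _ _ => rfl⟩
def lf10_13 : Leaf (walkS st) := ⟨[10, 8], [8], 8, 0, (fun off v => (stp8 off (stp10 off v))), (fun off v => (stp8 off v)), (fun _ _ p => p), fun _ _ => rfl, fun _ _ => rfl⟩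
def lf10_14 : Leaf (walkS st) := ⟨[10, 2], [2], 2, 0, (fun off v => (stp2 off (stp10 off v))), (fun off v => (stp2 off v)), (fun _ _ p => p), fun _ _ => rfl, fun _ _ => rfl⟩
def lf10_15 : Leaf (walkS st) := ⟨[10, 8], [8, 10], 8, 0, (fun off v => (stp8 off (stp10 off v))), (fun off v => (stp10 off (stp8 off v))), (fun _ _ p => p), fun _ _ => rfl, fun _ _ => rfl⟩
def lf10_16 : Leaf (walkS st) := ⟨[7, 10], [10, 7], 7, 0, (fun off v => (stp10 off (stp7 off v))), (fun off v => (stp7 off (stp10 off v))), (fun _ _ p => p), fun _ _ => rfl, fun _ _ => rfl⟩
def lf10_17 : Leaf (walkS st) := ⟨[9], [10, 10, 9], 9, 0, (fun off v => (stp9 off v)), (fun off v => (stp9 off (stp10 off (stp10 off v)))), (fun _ _ p => p), fun _ _ => rfl, fun _ _ => rfl⟩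
def lf10_18 : Leaf (walkS st) := ⟨[0], [10, 0], 0, 0, (fun off v => (stp0 off v)), (fun off v => (stp0 off (stp10 off v))), (fun _ _ p => p), fun _ _ => rfl, fun _ _ => rfl⟩
def lf10_19 : Leaf (walkS st) := ⟨[10, 7], [7], 7, 0, (fun off v => (stp7 off (stp10 off v))), (fun off v => (stp7 off v)), (fun _ _ p => p), fun _ _ => rfl, fun _ _ => rfl⟩
def lf10_20 : Leaf (walkS st) := ⟨[8], [10, 8, 10], 8, 0, (fun off v => (stp8 off v)), (fun off v => (stp10 off (stp8 off (stp10 off v)))), (fun _ _ p => p), fun _ _ => rfl, fun _ _ => rfl⟩
def lf10_21 : Leaf (walkS st) := ⟨[10, 6], [6], 6, 0, (fun off v => (stp6 off (stp10 off v))), (fun off v => (stp6 off v)), (fun _ _ p => p), fun _ _ => rfl, fun _ _ => rfl⟩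
def lf10_22 : Leaf (walkS st) := ⟨[10, 10, 5], [5], 5, 0, (fun off v => (stp5 off (stp10 off (stp10 off v)))), (fun off v => (stp5 off v)), (fun _ _ p => p), fun _ _ => rfl, fun _ _ => rfl⟩
def lf10_23 : Leaf (walkS st) := ⟨[10, 0], [0], 0, 0, (fun off v => (stp0 off (stp10 off v))), (fun off v => (stp0 off v)), (fun _ _ p => p), fun _ _ => rfl, fun _ _ => rfl⟩
def lf10_24 : Leaf (walkS st) := ⟨[1, 10], [10, 1], 1, 0, (fun off v => (stp10 off (stp1 off v))), (fun off v => (stp1 off (stp10 off v))), (fun _ _ p => p), fun _ _ => rfl, fun _ _ => rfl⟩
def lf10_25 : Leaf (walkS st) := ⟨[0], [10, 10, 0], 0, 0, (fun off v => (stp0 off v)), (fun off v => (stp0 off (stp10 off (stp10 off v)))), (fun _ _ p => p), fun _ _ => rfl, fun _ _ => rfl⟩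
def lf10_26 : Leaf (walkS st) := ⟨[10, 6], [6, 10], 6, 0, (fun off v => (stp6 off (stp10 off v))), (fun off v => (stp10 off (stp6 off v))), (fun _ _ p => p), fun _ _ => rfl, fun _ _ => rfl⟩
def lf10_27 : Leaf (walkS st) := ⟨[10, 4], [4, 10], 4, 0, (fun off v => (stp4 off (stp10 off v))), (fun off v => (stp10 off (stp4 off v))), (fun _ _ p => p), fun _ _ => rfl, fun _ _ => rfl⟩
def lf10_28 : Leaf (walkS st) := ⟨[10, 7], [7, 10], 7, 0, (fun off v => (stp7 off (stp10 off v))), (fun off v => (stp10 off (stp7 off v))), (fun _ _ p => p), fun _ _ => rfl, fun _ _ => rfl⟩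
def lf10_29 : Leaf (walkS st) := ⟨[6, 10], [10, 6], 6, 0, (fun off v => (stp10 off (stp6 off v))), (fun off v => (stp6 off (stp10 off v))), (fun _ _ p => p), fun _ _ => rfl, fun _ _ => rfl⟩
def lf10_30 : Leaf (walkS st) := ⟨[4], [10, 4, 10], 4, 0, (fun off v => (stp4 off v)), (fun off v => (stp10 off (stp4 off (stp10 off v)))), (fun _ _ p => p), fun _ _ => rfl, fun _ _ => rfl⟩
def lf10_31 : Leaf (walkS st) := ⟨[10, 3, 10], [3, 10, 10], 3, 0, (fun off v => (stp10 off (stp3 off (stp10 off v)))), (fun off v => (stp10 off (stp10 off (stp3 off v)))), (fun _ _ p => p), fun _ _ => rfl, fun _ _ => rfl⟩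
def lf10_32 : Leaf (walkS st) := ⟨[10, 8, 10], [8, 10], 8, 0, (fun off v => (stp10 off (stp8 off (stp10 off v)))), (fun off v => (stp10 off (stp8 off v))), (fun _ _ p => p), fun _ _ => rfl, fun _ _ => rfl⟩
def lf10_33 : Leaf (walkS st) := ⟨[6], [10, 10, 6], 6, 0, (fun off v => (stp6 off v)), (fun off v => (stp6 off (stp10 off (stp10 off v)))), (fun _ _ p => p), fun _ _ => rfl, fun _ _ => rfl⟩
def lf10_34 : Leaf (walkS st) := ⟨[6, 10], [10, 10, 6], 6, 0, (fun off v => (stp10 off (stp6 off v))), (fun off v => (stp6 off (stp10 off (stp10 off v)))), (fun _ _ p => p), fun _ _ => rfl, fun _ _ => rfl⟩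
def lf10_35 : Leaf (walkS st) := ⟨[10, 10, 7, 10], [7, 10], 7, 0, (fun off v => (stp10 off (stp7 off (stp10 off (stp10 off v))))), (fun off v => (stp10 off (stp7 off v))), (fun _ _ p => p), fun _ _ => rfl, fun _ _ => rfl⟩
def lf10_36 : Leaf (walkS st) := ⟨[5], [10, 5, 10], 5, 0, (fun off v => (stp5 off v)), (fun off v => (stp10 off (stp5 off (stp10 off v)))), (fun _ _ p => p), fun _ _ => rfl, fun _ _ => rfl⟩
def lf10_37 : Leaf (walkS st) := ⟨[5], [10, 10, 5], 5, 0, (fun off v => (stp5 off v)), (fun off v => (stp5 off (stp10 off (stp10 off v)))), (fun _ _ p => p), fun _ _ => rfl, fun _ _ => rfl⟩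
def lf10_38 : Leaf (walkS st) := ⟨[3], [10, 3, 10], 3, 0, (fun off v => (stp3 off v)), (fun off v => (stp10 off (stp3 off (stp10 off v)))), (fun _ _ p => p), fun _ _ => rfl, fun _ _ => rfl⟩
def lf10_39 : Leaf (walkS st) := ⟨[10, 4, 10], [4, 10], 4, 0, (fun off v => (stp10 off (stp4 off (stp10 off v)))), (fun off v => (stp10 off (stp4 off v))), (fun _ _ p => p), fun _ _ => rfl, fun _ _ => rfl⟩
def lf10_40 : Leaf (walkS st) := ⟨[8], [10, 10, 8], 8, 0, (fun off v => (stp8 off v)), (fun off v => (stp8 off (stp10 off (stp10 off v)))), (fun _ _ p => p), fun _ _ => rfl, fun _ _ => rfl⟩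
def lf10_41 : Leaf (walkS st) := ⟨[5, 10, 10], [10, 10, 5, 10], 5, 0, (fun off v => (stp10 off (stp10 off (stp5 off v)))), (fun off v => (stp10 off (stp5 off (stp10 off (stp10 off v))))), (fun _ _ p => p), fun _ _ => rfl, fun _ _ => rfl⟩
def lf10_42 : Leaf (walkS st) := ⟨[], [4, 8, 6, 3, 2, 3, 8, 9, 2, 5, 9, 8, 0, 7, 1], 58, 13, (fun _ v => v), (fun off v => (stp1 off (stp7 off (stp0 off (stp8 off (stp9 off (stp5 off (stp2 off (stp9 off (stp8 off (stp3 off (stp2 off (stp3 off (stp6 off (stp8 off (stp4 off v)))))))))))))))), (fun v _ _ => v), fun _ _ => rfl, fun _ _ => rfl⟩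
def lf10_43 : Leaf (walkS st) := ⟨[7], [10, 10, 7], 7, 0, (fun off v => (stp7 off v)), (fun off v => (stp7 off (stp10 off (stp10 off v)))), (fun _ _ p => p), fun _ _ => rfl, fun _ _ => rfl⟩
def lf10_44 : Leaf (walkS st) := ⟨[1], [10, 1], 1, 0, (fun off v => (stp1 off v)), (fun off v => (stp1 off (stp10 off v))), (fun _ _ p => p), fun _ _ => rfl, fun _ _ => rfl⟩
def lf10_45 : Leaf (walkS st) := ⟨[], [1, 8, 1, 8], 26, 3, (fun _ v => v), (fun off v => (stp8 off (stp1 off (stp8 off (stp1 off v))))), (fun v _ _ => v), fun _ _ => rfl, fun _ _ => rfl⟩
def lf10_46 : Leaf (walkS st) := ⟨[10, 1], [1], 1, 0, (fun off v => (stp1 off (stp10 off v))), (fun off v => (stp1 off v)), (fun _ _ p => p), fun _ _ => rfl, fun _ _ => rfl⟩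
def lf10_47 : Leaf (walkS st) := ⟨[2, 10, 10], [10, 2], 2, 0, (fun off v => (stp10 off (stp10 off (stp2 off v)))), (fun off v => (stp2 off (stp10 off v))), (fun _ _ p => p), fun _ _ => rfl, fun _ _ => rfl⟩
def lf10_48 : Leaf (walkS st) := ⟨[5, 10], [10, 5], 5, 0, (fun off v => (stp10 off (stp5 off v))), (fun off v => (stp5 off (stp10 off v))), (fun _ _ p => p), fun _ _ => rfl, fun _ _ => rfl⟩
def lf10_49 : Leaf (walkS st) := ⟨[7, 10], [10, 10, 7], 7, 0, (fun off v => (stp10 off (stp7 off v))), (fun off v => (stp7 off (stp10 off (stp10 off v)))), (fun _ _ p => p), fun _ _ => rfl, fun _ _ => rfl⟩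
def lf10_50 : Leaf (walkS st) := ⟨[10, 8], [8, 10, 10], 8, 0, (fun off v => (stp8 off (stp10 off v))), (fun off v => (stp10 off (stp10 off (stp8 off v)))), (fun _ _ p => p), fun _ _ => rfl, fun _ _ => rfl⟩
def lf10_51 : Leaf (walkS st) := ⟨[10, 4], [4], 4, 0, (fun off v => (stp4 off (stp10 off v))), (fun off v => (stp4 off v)), (fun _ _ p => p), fun _ _ => rfl, fun _ _ => rfl⟩
def lf10_52 : Leaf (walkS st) := ⟨[10, 3, 10], [3, 10], 3, 0, (fun off v => (stp10 off (stp3 off (stp10 off v)))), (fun off v => (stp10 off (stp3 off v))), (fun _ _ p => p), fun _ _ => rfl, fun _ _ => rfl⟩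
def lf10_53 : Leaf (walkS st) := ⟨[10, 10, 4], [4, 10], 4, 0, (fun off v => (stp4 off (stp10 off (stp10 off v)))), (fun off v => (stp10 off (stp4 off v))), (fun _ _ p => p), fun _ _ => rfl, fun _ _ => rfl⟩
def lf10_54 : Leaf (walkS st) := ⟨[10, 10, 8], [8, 10], 8, 0, (fun off v => (stp8 off (stp10 off (stp10 off v)))), (fun off v => (stp10 off (stp8 off v))), (fun _ _ p => p), fun _ _ => rfl, fun _ _ => rfl⟩
def lf10_55 : Leaf (walkS st) := ⟨[3, 10], [10, 10, 3, 10], 3, 0, (fun off v => (stp10 off (stp3 off v))), (fun off v => (stp10 off (stp3 off (stp10 off (stp10 off v))))), (fun _ _ p => p), fun _ _ => rfl, fun _ _ => rfl⟩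
def lf10_56 : Leaf (walkS st) := ⟨[4], [10, 10, 4], 4, 0, (fun off v => (stp4 off v)), (fun off v => (stp4 off (stp10 off (stp10 off v)))), (fun _ _ p => p), fun _ _ => rfl, fun _ _ => rfl⟩
def lf10_57 : Leaf (walkS st) := ⟨[10, 10, 3], [3, 10, 10], 3, 0, (fun off v => (stp3 off (stp10 off (stp10 off v)))), (fun off v => (stp10 off (stp10 off (stp3 off v)))), (fun _ _ p => p), fun _ _ => rfl, fun _ _ => rfl⟩
def lf10_58 : Leaf (walkS st) := ⟨[10, 0], [0, 10], 0, 0, (fun off v => (stp0 off (stp10 off v))), (fun off v => (stp10 off (stp0 off v))), (fun _ _ p => p), fun _ _ => rfl, fun _ _ => rfl⟩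
def lf10_59 : Leaf (walkS st) := ⟨[8, 10, 10], [10, 8, 10], 8, 0, (fun off v => (stp10 off (stp10 off (stp8 off v)))), (fun off v => (stp10 off (stp8 off (stp10 off v)))), (fun _ _ p => p), fun _ _ => rfl, fun _ _ => rfl⟩
def lf10_60 : Leaf (walkS st) := ⟨[9, 10], [10, 10, 9], 9, 0, (fun off v => (stp10 off (stp9 off v))), (fun off v => (stp9 off (stp10 off (stp10 off v)))), (fun _ _ p => p), fun _ _ => rfl, fun _ _ => rfl⟩
def lf10_61 : Leaf (walkS st) := ⟨[10, 3], [3, 10, 10, 10], 3, 0, (fun off v => (stp3 off (stp10 off v))), (fun off v => (stp10 off (stp10 off (stp10 off (stp3 off v))))), (fun _ _ p => p), fun _ _ => rfl, fun _ _ => rfl⟩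
def lf10_62 : Leaf (walkS st) := ⟨[4, 10, 10], [10, 10, 4], 4, 0, (fun off v => (stp10 off (stp10 off (stp4 off v)))), (fun off v => (stp4 off (stp10 off (stp10 off v)))), (fun _ _ p => p), fun _ _ => rfl, fun _ _ => rfl⟩
def lf10_63 : Leaf (walkS st) := ⟨[9, 10], [10, 10, 10, 9], 9, 0, (fun off v => (stp10 off (stp9 off v))), (fun off v => (stp9 off (stp10 off (stp10 off (stp10 off v))))), (fun _ _ p => p), fun _ _ => rfl, fun _ _ => rfl⟩
def lf10_64 : Leaf (walkS st) := ⟨[], [3, 2, 3, 6, 8, 4, 1, 7, 0, 8, 9, 5, 2, 9, 8, 10], 10, 8, (fun _ v => v), (fun off v => (stp10 off (stp8 off (stp9 off (stp2 off (stp5 off (stp9 off (stp8 off (stp0 off (stp7 off (stp1 off (stp4 off (stp8 off (stp6 off (stp3 off (stp2 off (stp3 off v))))))))))))))))), (fun v _ _ => v), fun _ _ => rfl, fun _ _ => rfl⟩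
def lf10_65 : Leaf (walkS st) := ⟨[2], [10, 2, 10, 10], 2, 0, (fun off v => (stp2 off v)), (fun off v => (stp10 off (stp10 off (stp2 off (stp10 off v))))), (fun _ _ p => p), fun _ _ => rfl, fun _ _ => rfl⟩
def lf10_66 : Leaf (walkS st) := ⟨[3], [10, 3, 10, 10], 3, 0, (fun off v => (stp3 off v)), (fun off v => (stp10 off (stp10 off (stp3 off (stp10 off v))))), (fun _ _ p => p), fun _ _ => rfl, fun _ _ => rfl⟩
def lf10_67 : Leaf (walkS st) := ⟨[9, 10, 10], [10, 9], 9, 0, (fun off v => (stp10 off (stp10 off (stp9 off v)))), (fun off v => (stp9 off (stp10 off v))), (fun _ _ p => p), fun _ _ => rfl, fun _ _ => rfl⟩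
def tree10 : RTree (walkS st) :=
  (.node 7 (.node 3 (.node 1 (.fork lf10_0) (.node 2 (.fork lf10_1) (.fork lf10_2))) (.node 5 (.node 4 (.fork lf10_3) (.fork lf10_4)) (.node 6 (.fork lf10_5) (.fork lf10_6)))) (.node 22 (.node 13 (.node 10 (.node 8 (.fork lf10_7) (.node 9 (.fork lf10_8) (.fork lf10_9))) (.node 11 (.fork lf10_10) (.node 12 (.fork lf10_11) (.fork lf10_12)))) (.node 17 (.node 15 (.node 14 (.fork lf10_13) (.fork lf10_14)) (.node 16 (.fork lf10_15) (.fork lf10_16))) (.node 19 (.node 18 (.fork lf10_17) (.fork lf10_18)) (.node 20 (.fork lf10_19) (.node 21 (.fork lf10_20) (.fork lf10_21)))))) (.node 38 (.node 30 (.node 26 (.node 24 (.node 23 (.fork lf10_22) (.fork lf10_23)) (.node 25 (.fork lf10_24) (.fork lf10_25))) (.node 28 (.node 27 (.fork lf10_26) (.fork lf10_27)) (.node 29 (.fork lf10_28) (.fork lf10_29)))) (.node 34 (.node 32 (.node 31 (.fork lf10_30) (.fork lf10_31)) (.node 33 (.fork lf10_32) (.fork lf10_33))) (.node 36 (.node 35 (.fork lf10_34) (.fork lf10_35)) (.node 37 (.fork lf10_36) (.fork lf10_37))))) (.node 51 (.node 42 (.node 40 (.node 39 (.fork lf10_38) (.fork lf10_39)) (.node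 41 (.fork lf10_40) (.fork lf10_41))) (.node 46 (.node 44 (.node 43 (.fork lf10_42) (.fork lf10_43)) (.node 45 (.fork lf10_44) (.fork lf10_45))) (.node 48 (.node 47 (.fork lf10_46) (.fork lf10_47)) (.node 49 (.fork lf10_48) (.node 50 (.fork lf10_49) (.fork lf10_50)))))) (.node 59 (.node 55 (.node 53 (.node 52 (.fork lf10_51) (.fork lf10_52)) (.node 54 (.fork lf10_53) (.fork lf10_54))) (.node 57 (.node 56 (.fork lf10_55) (.fork lf10_56)) (.node 58 (.fork lf10_57) (.fork lf10_58)))) (.node 63 (.node 61 (.node 60 (.fork lf10_59) (.fork lf10_60)) (.node 62 (.fork lf10_61) (.fork lf10_62))) (.node 65 (.node 64 (.fork lf10_63) (.fork lf10_64)) (.node 66 (.fork lf10_65) (.node 67 (.fork lf10_66) (.fork lf10_67))))))))))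
def trees : Nat → RTree (walkS st)
  | 0 => tree0
  | 1 => tree1
  | 2 => tree2
  | 3 => tree3
  | 4 => tree4
  | 5 => tree5
  | 6 => tree6
  | 7 => tree7
  | 8 => tree8
  | 9 => tree9
  | 10 => tree10
  | _ => .tleaf
noncomputable def fs0 (v : Nat) : Bool := chkSlot par tA0 je0 pe 7 127 16 (deadF par tA10) (fun _ => 273) tree0 0 v
noncomputable def fs1 (v : Nat) : Bool := chkSlot par tA1 je1 pe 7 127 16 (deadF par tA10) (fun _ => 273) tree1 1 v
noncomputable def fs2 (v : Nat) : Bool := chkSlot par tA2 je2 pe 7 127 16 (deadF par tA10) (fun _ => 273) tree2 2 v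
noncomputable def fs3 (v : Nat) : Bool := chkSlot par tA3 je3 pe 7 127 16 (deadF par tA10) (fun _ => 273) tree3 3 v
noncomputable def fs4 (v : Nat) : Bool := chkSlot par tA4 je4 pe 7 127 16 (deadF par tA10) (fun _ => 273) tree4 4 v
noncomputable def fs5 (v : Nat) : Bool := chkSlot par tA5 je5 pe 7 127 16 (deadF par tA10) (fun _ => 273) tree5 5 v
noncomputable def fs6 (v : Nat) : Bool := chkSlot par tA6 je6 pe 7 127 16 (deadF par tA10) (fun _ => 273) tree6 6 v
noncomputable def fs7 (v : Nat) : Bool := chkSlot par tA7 je7 pe 7 127 16 (deadF par tA10) (fun _ => 273) tree7 7 v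
noncomputable def fs8 (v : Nat) : Bool := chkSlot par tA8 je8 pe 7 127 16 (deadF par tA10) (fun _ => 273) tree8 8 v
noncomputable def fs9 (v : Nat) : Bool := chkSlot par tA9 je9 pe 7 127 16 (deadF par tA10) (fun _ => 273) tree9 9 v
noncomputable def fs10 (v : Nat) : Bool := chkSlot par tA10 je10 pe 7 127 16 (fun _ => true) (fun v => Nat.pred v) tree10 10 v
def gl (k : Nat) : Bool := liveF par tA10 (Nat.succ k)

end

end Cfsg.Agent.Lib.Helper35.Fi23Ord.Y0
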